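import Groth.Agent.H27Weil.Geometry
import Groth.Agent.H28RR.Omega
import Groth.Agent.H22Alg.PB.Push
import Groth.Agent.H11Ample.Basic
import Groth.Agent.LeadBC.GeomConn
import Groth.Agent.LeadBC.GenBC.AppIsoApps
import Groth.Agent.H19Grp.AbSchemeRigid
import Groth.Prelude.Def_RedSub
import Groth.Prelude.Def_Canon

/-!
# Smooth locally projective morphisms with geometrically connected fibres
-/

set_option autoImplicit false
set_option linter.style.haveILetI false

universe u

open CategoryTheory CategoryTheory.Limits AlgebraicGeometry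

namespace Groth.Agent.H26Canon

variable {X S : Scheme.{u}}

theorem isProper_of_isLocallyProjective (f : X ⟶ S) (h : RedSub.IsLocallyProjective (Over.mk f)) :
    IsProper f := by
  choose V hV n e he hef using h
  have htop : iSup V = ⊤ := eq_top_iff.2 fun s _ => TopologicalSpace.Opens.mem_iSup.2 ⟨s, hV s⟩
  refine (IsZariskiLocalAtTarget.iff_of_iSup_eq_top (P := @IsProper) V htop).2 fun s => ?_
  haveI := he s
  haveI : IsProper (CohB1.ProjSpaceOver.toBase (n s) (V s : Scheme.{u})) := H27Weil.isProper_toBase _ _
  have h1 : IsProper (e s ≫ CohB1.ProjSpaceOver.toBase (n s) (V s : Scheme.{u})) := inferInstance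
  rw [hef s] at h1
  haveI : IsProper (pullback.snd f (V s).ι) := h1
  exact inferInstanceAs (IsProper ((pullbackRestrictIsoRestrict f (V s)).inv ≫ pullback.snd f (V s).ι))

theorem isInvertible_of_isTopDiff (f : X ⟶ S) [QuasiSeparated f] (n : ℕ) [SmoothOfRelativeDimension n f]
    {ω : X.Modules} (hω : Canon.IsTopDiff f n ω) : PicF.IsInvertible ω := by
  have hE := H28RR.isFinLocFreeOfRank_omega f n
  have hE' := H22Alg.KPullLam.finLocFree_of_rank hE
  exact H22Alg.PB.isInvertible_of_rank_one (H22Alg.PB.rank_of_rk
    (H22Alg.ExtPowHom.finLocFree_of_isExtPow hE' hω) fun x => by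
    rw [H22Alg.KExists.rk_extPow hE' hω, H22Alg.KExists.rk_of_rank hE, Nat.choose_self])

theorem bijective_app (f : X ⟶ S) [IsProper f] [Smooth f] [GeometricallyConnected f] (U : S.Opens) :
    Function.Bijective (f.app U) := by
  haveI := H19Grp.geometricallyReduced_of_smooth_hom f
  haveI := LeadBC.GenBC.isIso_app_of_fibres f (LeadBC.GeomConn.isIso_appTop_fibre f fun K _ _ g =>
    ⟨GeometricallyReduced.geometrically_isReduced (f := f) g _ _ (.of_hasPullback f g),
      GeometricallyConnected.geometrically_connectedSpace (f := f) g _ _ (.of_hasPullback f g)⟩) U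
  exact ConcreteCategory.bijective_of_isIso (f.app U)

end Groth.Agent.H26Canon
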